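import Mathlib

open CategoryTheory Category Limits CochainComplex.HomComplex

universe v u

namespace Helper5.TwoTerm

variable {C : Type u} [Category.{v} C] [Abelian C]

/-- A complex concentrated in degrees `≤ 0` with projective term in degree `0` is left
orthogonal (up to homotopy) to acyclic complexes concentrated in degrees `≥ -2`. -/
theorem nonempty_homotopy_zero_of_acyclic {M L : CochainComplex C ℤ}
    (hM : ∀ i : ℤ, 0 < i → IsZero (M.X i)) [Projective (M.X 0)]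
    (hL : ∀ i : ℤ, i < -2 → IsZero (L.X i)) (hLa : L.Acyclic) (φ : M ⟶ L) :
    Nonempty (Homotopy φ 0) := by
  have e0 : (L.sc' (-1) 0 1).Exact :=
    (L.exactAt_iff' (-1) 0 1 (by simp) (by simp)).mp (hLa 0)
  have e1 : (L.sc' (-2) (-1) 0).Exact :=
    (L.exactAt_iff' (-2) (-1) 0 (by simp) (by simp)).mp (hLa (-1))
  have e2 : (L.sc' (-3) (-2) (-1)).Exact :=
    (L.exactAt_iff' (-3) (-2) (-1) (by simp) (by simp)).mp (hLa (-2))
  have hmono : Mono (L.d (-2) (-1)) := e2.mono_g ((hL (-3) (by lia)).eq_of_src _ _)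
  have hmono' : Mono (L.sc' (-2) (-1) 0).f := hmono
  have hφ0 : φ.f 0 ≫ L.d 0 1 = 0 := by
    rw [φ.comm, (hM 1 (by lia)).eq_of_tgt (M.d 0 1) 0, zero_comp]
  let h0 : M.X 0 ⟶ L.X (-1) := e0.liftFromProjective (φ.f 0) hφ0
  have hh0 : h0 ≫ L.d (-1) 0 = φ.f 0 := e0.liftFromProjective_comp _ _
  let ψ : M.X (-1) ⟶ L.X (-1) := φ.f (-1) - M.d (-1) 0 ≫ h0
  have hψ : ψ ≫ L.d (-1) 0 = 0 := by
    simp only [ψ, Preadditive.sub_comp, assoc, hh0, φ.comm, sub_self]
  let h1 : M.X (-1) ⟶ L.X (-2) := e1.lift ψ hψ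
  have hh1 : h1 ≫ L.d (-2) (-1) = ψ := e1.lift_f _ _
  have h2 : M.d (-2) (-1) ≫ h1 = φ.f (-2) := by
    rw [← cancel_mono (L.d (-2) (-1)), assoc, hh1]
    simp [ψ]
  refine ⟨(Cochain.equivHomotopy φ 0).symm
    ⟨Cochain.single h0 (-1) + Cochain.single h1 (-1), ?_⟩⟩
  rw [δ_add, Cochain.δ_single h0 (-1) 0 (by lia) (-1) 0 (by lia) (by lia),
    Cochain.δ_single h1 (-1) 0 (by lia) (-2) (-1) (by lia) (by lia)]
  ext p
  simp only [Cochain.add_v, Cochain.ofHom_v, Cochain.units_smul_v,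
    HomologicalComplex.zero_f, add_zero]
  by_cases hp0 : p = 0
  · subst hp0
    rw [Cochain.single_v, Cochain.single_v_eq_zero _ _ _ _ _ (by lia),
      Cochain.single_v_eq_zero _ _ _ _ _ (by lia), Cochain.single_v_eq_zero _ _ _ _ _ (by lia)]
    simp [hh0]
  by_cases hp1 : p = -1
  · subst hp1
    rw [Cochain.single_v, Cochain.single_v, Cochain.single_v_eq_zero _ _ _ _ _ (by lia),
      Cochain.single_v_eq_zero _ _ _ _ _ (by lia), hh1]
    simp [ψ]
  by_cases hp2 : p = -2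
  · subst hp2
    rw [Cochain.single_v, Cochain.single_v_eq_zero _ _ _ _ _ (by lia),
      Cochain.single_v_eq_zero _ _ _ _ _ (by lia), Cochain.single_v_eq_zero _ _ _ _ _ (by lia), h2]
    simp
  · rw [Cochain.single_v_eq_zero _ _ _ _ _ hp0, Cochain.single_v_eq_zero _ _ _ _ _ hp1,
      Cochain.single_v_eq_zero _ _ _ _ _ hp1, Cochain.single_v_eq_zero _ _ _ _ _ hp2]
    simp only [smul_zero, add_zero]
    by_cases hp : 0 < p
    · exact (hM p hp).eq_of_src _ _
    · exact (hL p (by lia)).eq_of_tgt _ _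

end Helper5.TwoTerm
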