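import Mathlib
import Groth.Agent.Lib.Helper5.TwoTerm.Orth

open CategoryTheory Category Limits Pretriangulated

universe w v u

namespace Helper5.TwoTerm

variable {C : Type u} [Category.{v} C] [Abelian C]

/-- Objects of the homotopy category represented by acyclic complexes vanishing in degrees `< n`. -/
def BA (n : ℤ) : ObjectProperty (HomotopyCategory C (ComplexShape.up ℤ)) := fun Z =>
  ∃ L : CochainComplex C ℤ, L.Acyclic ∧ (∀ i : ℤ, i < n → IsZero (L.X i)) ∧
    Nonempty (Z ≅ (HomotopyCategory.quotient C (ComplexShape.up ℤ)).obj L)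

lemma eq_zero_of_BA {M : CochainComplex C ℤ}
    (hM : ∀ i : ℤ, 0 < i → IsZero (M.X i)) [Projective (M.X 0)]
    {Z : HomotopyCategory C (ComplexShape.up ℤ)} (hZ : BA (-2) Z)
    (β : (HomotopyCategory.quotient C (ComplexShape.up ℤ)).obj M ⟶ Z) : β = 0 := by
  obtain ⟨L, hLa, hL, ⟨e⟩⟩ := hZ
  rw [← cancel_mono e.hom, zero_comp]
  obtain ⟨φ, hφ⟩ := (HomotopyCategory.quotient C (ComplexShape.up ℤ)).map_surjective (β ≫ e.hom)
  obtain ⟨H⟩ := nonempty_homotopy_zero_of_acyclic hM hL hLa φ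
  rw [← hφ, HomotopyCategory.eq_of_homotopy _ _ H, Functor.map_zero]

lemma acyclic_mappingCone {K K' : CochainComplex C ℤ} (s : K ⟶ K') [QuasiIso s] :
    (CochainComplex.mappingCone s).Acyclic := by
  rw [← HomotopyCategory.quotient_obj_mem_subcategoryAcyclic_iff_acyclic]
  have h := (HomotopyCategory.subcategoryAcyclic C).trW_iff_of_distinguished _
    (HomotopyCategory.mappingCone_triangleh_distinguished s)
  refine h.mp ?_
  rw [← HomotopyCategory.quasiIso_eq_trW_subcategoryAcyclic]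
  exact (HomotopyCategory.quotient_map_mem_quasiIso_iff s).mpr ((HomologicalComplex.mem_quasiIso_iff s).mpr inferInstance)

lemma BA_cone {K K' : CochainComplex C ℤ} (s : K ⟶ K') [QuasiIso s]
    [K.IsStrictlyGE (-1)] [K'.IsStrictlyGE (-1)] :
    BA (-2) ((HomotopyCategory.quotient C (ComplexShape.up ℤ)).obj (CochainComplex.mappingCone s)) := by
  have := CochainComplex.isStrictlyGE_mappingCone s (-1) (-1) (-2)
  exact ⟨_, acyclic_mappingCone s,
    fun i hi => CochainComplex.isZero_of_isStrictlyGE _ (-2) i hi, ⟨Iso.refl _⟩⟩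

lemma BA_cone_shift {K K' : CochainComplex C ℤ} (s : K ⟶ K') [QuasiIso s]
    [K.IsStrictlyGE (-1)] [K'.IsStrictlyGE (-1)] :
    BA (-2) (((HomotopyCategory.quotient C (ComplexShape.up ℤ)).obj
      (CochainComplex.mappingCone s))⟦(-1 : ℤ)⟧) := by
  have := CochainComplex.isStrictlyGE_mappingCone s (-1) (-1) (-2)
  refine ⟨(CochainComplex.mappingCone s)⟦(-1 : ℤ)⟧, ?_, ?_,
    ⟨(((HomotopyCategory.quotient C (ComplexShape.up ℤ)).commShiftIso (-1 : ℤ)).app _).symm⟩⟩
  · rw [← HomotopyCategory.quotient_obj_mem_subcategoryAcyclic_iff_acyclic]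
    refine ObjectProperty.prop_of_iso _
      (((HomotopyCategory.quotient C (ComplexShape.up ℤ)).commShiftIso (-1 : ℤ)).app _).symm ?_
    refine (HomotopyCategory.subcategoryAcyclic C).le_shift (-1 : ℤ) _ ?_
    rw [HomotopyCategory.quotient_obj_mem_subcategoryAcyclic_iff_acyclic]
    exact acyclic_mappingCone s
  · intro i hi
    exact CochainComplex.isZero_of_isStrictlyGE (CochainComplex.mappingCone s) (-2) _ (by lia)

variable [HasDerivedCategory.{w} C]

open DerivedCategory

/-- Surjectivity of `Hom_K(M, K) → Hom_D(M, K)`. -/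
theorem exists_Q_map_eq {M K : CochainComplex C ℤ}
    (hM : ∀ i : ℤ, 0 < i → IsZero (M.X i)) [Projective (M.X 0)]
    [K.IsStrictlyGE (-1)] (f : Q.obj M ⟶ Q.obj K) : ∃ g : M ⟶ K, Q.map g = f := by
  obtain ⟨K', _, g, s, hs, rfl⟩ := left_fac_of_isStrictlyGE f (-1)
  have hsq : QuasiIso s := (isIso_Q_map_iff_quasiIso C s).mp hs
  have hT := HomotopyCategory.mappingCone_triangleh_distinguished s
  have h0 : (HomotopyCategory.quotient C (ComplexShape.up ℤ)).map g ≫
      (CochainComplex.mappingCone.triangleh s).mor₂ = 0 := eq_zero_of_BA hM (BA_cone s) _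
  have key : ∃ φ : M ⟶ K, (HomotopyCategory.quotient C (ComplexShape.up ℤ)).map g =
      (HomotopyCategory.quotient C (ComplexShape.up ℤ)).map φ ≫
        (HomotopyCategory.quotient C (ComplexShape.up ℤ)).map s := by
    obtain ⟨φ', hφ'⟩ := Triangle.coyoneda_exact₂ _ hT _ h0
    obtain ⟨φ, hφ⟩ := (HomotopyCategory.quotient C (ComplexShape.up ℤ)).map_surjective
      (X := M) (Y := K) φ'
    exact ⟨φ, by rw [hφ]; exact hφ'⟩
  obtain ⟨φ, hφ⟩ := key
  refine ⟨φ, ?_⟩
  rw [← Functor.map_comp] at hφ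
  have h1 : Q.map g = Q.map (φ ≫ s) :=
    Q_map_eq_of_homotopy C (HomotopyCategory.homotopyOfEq _ _ hφ)
  rw [h1, Q.map_comp, assoc, IsIso.hom_inv_id, comp_id]

/-- Injectivity of `Hom_K(M, K) → Hom_D(M, K)`. -/
theorem nonempty_homotopy_zero_of_Q_map_eq_zero {M K : CochainComplex C ℤ}
    (hM : ∀ i : ℤ, 0 < i → IsZero (M.X i)) [Projective (M.X 0)]
    [K.IsStrictlyGE (-1)] (g : M ⟶ K) (hg : Q.map g = 0) : Nonempty (Homotopy g 0) := by
  have h : Qh.map ((HomotopyCategory.quotient C (ComplexShape.up ℤ)).map g) =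
      Qh.map ((HomotopyCategory.quotient C (ComplexShape.up ℤ)).map (0 : M ⟶ K)) := by
    rw [Functor.map_zero, Functor.map_zero]
    exact hg
  rw [MorphismProperty.map_eq_iff_postcomp Qh
    (HomotopyCategory.quasiIso C (ComplexShape.up ℤ))] at h
  obtain ⟨Z, s, hs, fac⟩ := h
  obtain ⟨K'', rfl⟩ := HomotopyCategory.quotient_obj_surjective Z
  obtain ⟨s', rfl⟩ := (HomotopyCategory.quotient C (ComplexShape.up ℤ)).map_surjective s
  rw [HomotopyCategory.quotient_map_mem_quasiIso_iff, HomologicalComplex.mem_quasiIso_iff] at hs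
  have : IsIso (Q.map s') := (isIso_Q_map_iff_quasiIso C s').mpr hs
  have hGE : CochainComplex.IsGE K'' (-1) := by
    rw [← isGE_Q_obj_iff]
    exact TStructure.t.isGE_of_iso (asIso (Q.map s')) (-1)
  let t : K ⟶ CochainComplex.truncGE K'' (-1) := s' ≫ CochainComplex.πTruncGE K'' (-1)
  have ht : QuasiIso t := by dsimp [t]; infer_instance
  have fac' : (HomotopyCategory.quotient C (ComplexShape.up ℤ)).map g ≫
      (CochainComplex.mappingCone.triangleh t).invRotate.mor₂ = 0 := by
    change (HomotopyCategory.quotient C (ComplexShape.up ℤ)).map g ≫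
      (HomotopyCategory.quotient C (ComplexShape.up ℤ)).map t = 0
    dsimp [t]
    rw [Functor.map_comp, reassoc_of% fac, Functor.map_zero, zero_comp]
  have hT := inv_rot_of_distTriang _ (HomotopyCategory.mappingCone_triangleh_distinguished t)
  obtain ⟨β, hβ⟩ := Triangle.coyoneda_exact₂ _ hT _ fac'
  have hβ0 : β = 0 := eq_zero_of_BA hM (BA_cone_shift t) β
  rw [hβ0, zero_comp] at hβ
  exact ⟨HomotopyCategory.homotopyOfEq _ _ (hβ.trans (Functor.map_zero _ _ _).symm)⟩

theorem Qh_map_bijective {M K : CochainComplex C ℤ}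
    (hM : ∀ i : ℤ, 0 < i → IsZero (M.X i)) [Projective (M.X 0)]
    [K.IsStrictlyGE (-1)] :
    Function.Bijective (fun φ : (HomotopyCategory.quotient C (ComplexShape.up ℤ)).obj M ⟶
      (HomotopyCategory.quotient C (ComplexShape.up ℤ)).obj K => Qh.map φ) := by
  constructor
  · intro φ₁ φ₂ h
    obtain ⟨g₁, rfl⟩ := (HomotopyCategory.quotient C (ComplexShape.up ℤ)).map_surjective φ₁
    obtain ⟨g₂, rfl⟩ := (HomotopyCategory.quotient C (ComplexShape.up ℤ)).map_surjective φ₂
    have h' : Q.map (g₁ - g₂) = 0 := by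
      rw [Functor.map_sub, sub_eq_zero]
      exact h
    obtain ⟨H⟩ := nonempty_homotopy_zero_of_Q_map_eq_zero hM (g₁ - g₂) h'
    have := HomotopyCategory.eq_of_homotopy _ _ H
    rw [Functor.map_sub, Functor.map_zero, sub_eq_zero] at this
    exact this
  · intro f
    obtain ⟨g, hg⟩ := exists_Q_map_eq hM (K := K) f
    exact ⟨(HomotopyCategory.quotient C (ComplexShape.up ℤ)).map g, hg⟩

end Helper5.TwoTerm
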