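import Mathlib
import Groth.Agent.Lib.Helper5.DMod.HomProj

open CategoryTheory Category Limits Pretriangulated DerivedCategory

universe w v u

namespace Helper5.TwoTerm

variable {C : Type u} [Category.{v} C] [Abelian C] [HasDerivedCategory.{w} C]

/-- In a distinguished triangle, `Hⁿ` of the cone vanishes when `Hⁿ(mor₁)` is epi and
`Hⁿ⁺¹(mor₁)` is mono. -/
lemma isZero_homology_obj₃ (T : Triangle (DerivedCategory C)) (hT : T ∈ distTriang _)
    (n₀ n₁ : ℤ) (h : n₀ + 1 = n₁) (h₀ : Epi ((homologyFunctor C n₀).map T.mor₁))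
    (h₁ : Mono ((homologyFunctor C n₁).map T.mor₁)) :
    IsZero ((homologyFunctor C n₀).obj T.obj₃) := by
  have e := HomologySequence.exact₃ T hT n₀ n₁ h
  exact e.isZero_X₂ ((HomologySequence.epi_homologyMap_mor₁_iff T hT n₀).mp h₀)
    ((HomologySequence.mono_homologyMap_mor₁_iff T hT n₀ n₁ h).mp h₁)

set_option backward.isDefEq.respectTransparency false in
/-- Objects of `D^{[-1,0]}` are represented by two-term complexes `Y → P` with `P` any projective
object mapping onto `H⁰`. -/
theorem exists_twoTerm_of_epi (K : DerivedCategory C) [K.IsGE (-1)] [K.IsLE 0] {P : C}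
    [Projective P] (π : P ⟶ (homologyFunctor C 0).obj K) [Epi π] :
    ∃ (Y : C) (δ : Y ⟶ P),
      Nonempty (Q.obj (CochainComplex.mappingCone ((CochainComplex.singleFunctor C 0).map δ)) ≅
        K) := by
  obtain ⟨u, hu⟩ := (Helper5.DMod.evD_bijective (P := P) K).2 π
  obtain ⟨Z, g, h, hT⟩ := distinguished_cocone_triangle u
  have hu0 : Epi ((homologyFunctor C 0).map u) := by
    have h1 : (singleFunctorCompHomologyFunctorIso C 0).inv.app P ≫
        (homologyFunctor C 0).map u = π := hu
    have : Epi ((singleFunctorCompHomologyFunctorIso C 0).inv.app P ≫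
        (homologyFunctor C 0).map u) := by rw [h1]; infer_instance
    exact epi_of_epi ((singleFunctorCompHomologyFunctorIso C 0).inv.app P) _
  have hZ : ∀ i : ℤ, i ≠ -1 → IsZero ((homologyFunctor C i).obj Z) := by
    intro i hi
    refine isZero_homology_obj₃ _ hT i (i + 1) rfl ?_ ?_
    · by_cases h0 : i = 0
      · subst h0; exact hu0
      · have : IsZero ((homologyFunctor C i).obj K) := by
          rcases lt_or_gt_of_ne h0 with h | h
          · exact K.isZero_of_isGE (-1) i (by lia)
          · exact K.isZero_of_isLE 0 i h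
        exact ⟨fun _ _ _ => this.eq_of_src _ _⟩
    · have : IsZero ((homologyFunctor C (i + 1)).obj ((singleFunctor C 0).obj P)) := by
        rcases lt_or_gt_of_ne (show i + 1 ≠ 0 by lia) with h | h
        · exact isZero_of_isGE _ 0 _ h
        · exact isZero_of_isLE _ 0 _ h
      exact ⟨fun _ _ _ => this.eq_of_tgt _ _⟩
  have : Z.IsGE (-1) := (isGE_iff Z (-1)).mpr (fun i hi => hZ i (by lia))
  have : Z.IsLE (-1) := (isLE_iff Z (-1)).mpr (fun i hi => hZ i (by lia))
  obtain ⟨Y, ⟨eZ⟩⟩ := exists_iso_singleFunctor_obj_of_isGE_of_isLE Z (-1)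
  let T := Triangle.mk u g h
  have hT₁ : T.invRotate ∈ distTriang _ := inv_rot_of_distTriang _ hT
  let e₁ : T.invRotate.obj₁ ≅ (singleFunctor C 0).obj Y :=
    (shiftFunctor (DerivedCategory C) (-1 : ℤ)).mapIso eZ ≪≫
      ((singleFunctors C).shiftIso (-1) 0 (-1) (by lia)).app Y
  let w : (singleFunctor C 0).obj Y ⟶ (singleFunctor C 0).obj P := e₁.inv ≫ T.invRotate.mor₁
  let δ : Y ⟶ P := (singleFunctor C 0).preimage w
  have hδ : (singleFunctor C 0).map δ = w := Functor.map_preimage _ _
  refine ⟨Y, δ, ?_⟩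
  have hT₂ := mappingCone_triangle_distinguished ((CochainComplex.singleFunctor C 0).map δ)
  have iso := isoTriangleOfIso₁₂ T.invRotate _ hT₁ hT₂
    (e₁ ≪≫ (singleFunctorIsoCompQ C 0).app Y) ((singleFunctorIsoCompQ C 0).app P) (by
      have := (singleFunctorIsoCompQ C 0).hom.naturality δ
      dsimp at this
      change T.invRotate.mor₁ ≫ (singleFunctorIsoCompQ C 0).hom.app P =
        (e₁.hom ≫ (singleFunctorIsoCompQ C 0).hom.app Y) ≫
          Q.map ((CochainComplex.singleFunctor C 0).map δ)
      rw [assoc, ← this, hδ]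
      dsimp only [w]
      rw [assoc, Iso.hom_inv_id_assoc])
  exact ⟨(Triangle.π₃.mapIso iso).symm⟩

end Helper5.TwoTerm
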