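import Mathlib
import Groth.Agent.Lib.Helper5.TwoTerm.TS

open CategoryTheory Category Limits Pretriangulated DerivedCategory Triangulated

universe w v u

namespace Helper5.TwoTerm

variable {C : Type u} [Category.{v} C] [Abelian C] [HasDerivedCategory.{w} C]

lemma isIso_homologyMap_mor₂ (T : Triangle (DerivedCategory C)) (hT : T ∈ distTriang _)
    (n₀ n₁ : ℤ) (h : n₀ + 1 = n₁) (h₀ : IsZero ((homologyFunctor C n₀).obj T.obj₁))
    (h₁ : IsZero ((homologyFunctor C n₁).obj T.obj₁)) :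
    IsIso ((homologyFunctor C n₀).map T.mor₂) := by
  have : Mono ((homologyFunctor C n₀).map T.mor₂) :=
    (HomologySequence.mono_homologyMap_mor₂_iff T hT n₀).mpr (h₀.eq_of_src _ _)
  have : Epi ((homologyFunctor C n₀).map T.mor₂) :=
    (HomologySequence.epi_homologyMap_mor₂_iff T hT n₀ n₁ h).mpr (h₁.eq_of_tgt _ _)
  exact isIso_of_mono_of_epi _

lemma isIso_homologyMap_mor₁ (T : Triangle (DerivedCategory C)) (hT : T ∈ distTriang _)
    (n₀ n₁ : ℤ) (h : n₀ + 1 = n₁) (h₀ : IsZero ((homologyFunctor C n₀).obj T.obj₃))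
    (h₁ : IsZero ((homologyFunctor C n₁).obj T.obj₃)) :
    IsIso ((homologyFunctor C n₁).map T.mor₁) := by
  have : Mono ((homologyFunctor C n₁).map T.mor₁) :=
    (HomologySequence.mono_homologyMap_mor₁_iff T hT n₀ n₁ h).mpr (h₀.eq_of_src _ _)
  have : Epi ((homologyFunctor C n₁).map T.mor₁) :=
    (HomologySequence.epi_homologyMap_mor₁_iff T hT n₁).mpr (h₁.eq_of_tgt _ _)
  exact isIso_of_mono_of_epi _

/-- A morphism between objects concentrated in a single degree `n` vanishes if it induces zero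
on `Hⁿ`. -/
lemma eq_zero_of_heart {A B : DerivedCategory C} (n : ℤ) [A.IsLE n] [A.IsGE n] [B.IsLE n]
    [B.IsGE n] (g : A ⟶ B) (hg : (homologyFunctor C n).map g = 0) : g = 0 := by
  obtain ⟨A₀, ⟨eA⟩⟩ := exists_iso_singleFunctor_obj_of_isGE_of_isLE A n
  obtain ⟨B₀, ⟨eB⟩⟩ := exists_iso_singleFunctor_obj_of_isGE_of_isLE B n
  obtain ⟨g₀, hg₀⟩ := (singleFunctor C n).map_surjective (eA.inv ≫ g ≫ eB.hom)
  have h1 : (homologyFunctor C n).map ((singleFunctor C n).map g₀) = 0 := by
    rw [hg₀, Functor.map_comp, Functor.map_comp, hg, zero_comp, comp_zero]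
  have h2 : g₀ = 0 := by
    have := NatIso.naturality_1 (singleFunctorCompHomologyFunctorIso C n) g₀
    dsimp at this
    rw [← this, h1, zero_comp, comp_zero]
  rw [h2, Functor.map_zero] at hg₀
  have : g ≫ eB.hom = 0 := by
    rw [← cancel_epi eA.inv, ← hg₀, comp_zero]
  rw [← cancel_mono eB.hom, this, zero_comp]

/-- A morphism from an object `≤ n` to an object `≥ n` vanishes if it induces zero on `Hⁿ`. -/
theorem eq_zero_of_homologyMap_eq_zero {X Y : DerivedCategory C} (n : ℤ) [X.IsLE n] [Y.IsGE n]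
    (f : X ⟶ Y) (hf : (homologyFunctor C n).map f = 0) : f = 0 := by
  let t : TStructure (DerivedCategory C) := TStructure.t
  have h1 : (t.truncGEπ n).app X ≫ t.descTruncGE f n = f := t.π_descTruncGE f n
  have h2 : t.liftTruncLT (t.descTruncGE f n) n (n + 1) rfl ≫ (t.truncLTι (n + 1)).app Y =
      t.descTruncGE f n := t.liftTruncLT_ι _ n (n + 1) rfl
  have iπ : IsIso ((homologyFunctor C n).map ((t.truncGEπ n).app X)) := by
    have : ((t.triangleLTGE n).obj X).obj₁.IsLE (n - 1) :=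
      inferInstanceAs (t.IsLE ((t.triangleLTGE n).obj X).obj₁ (n - 1))
    exact isIso_homologyMap_mor₂ _ (t.triangleLTGE_distinguished n X) n (n + 1) rfl
      (isZero_of_isLE _ (n - 1) n (by lia)) (isZero_of_isLE _ (n - 1) (n + 1) (by lia))
  have iι : IsIso ((homologyFunctor C n).map ((t.truncLTι (n + 1)).app Y)) := by
    have : ((t.triangleLTGE (n + 1)).obj Y).obj₃.IsGE (n + 1) :=
      inferInstanceAs (t.IsGE ((t.triangleLTGE (n + 1)).obj Y).obj₃ (n + 1))
    exact isIso_homologyMap_mor₁ _ (t.triangleLTGE_distinguished (n + 1) Y) (n - 1) n (by lia)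
      (isZero_of_isGE _ (n + 1) (n - 1) (by lia)) (isZero_of_isGE _ (n + 1) n (by lia))
  have h3 : (homologyFunctor C n).map (t.liftTruncLT (t.descTruncGE f n) n (n + 1) rfl) = 0 := by
    rw [← h1, ← h2, Functor.map_comp, Functor.map_comp] at hf
    rw [← cancel_epi ((homologyFunctor C n).map ((t.truncGEπ n).app X)),
      ← cancel_mono ((homologyFunctor C n).map ((t.truncLTι (n + 1)).app Y)), assoc, hf,
      comp_zero, zero_comp]
  have hA1 : ((t.truncGE n).obj X).IsGE n := inferInstanceAs (t.IsGE ((t.truncGE n).obj X) n)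
  have hA2 : ((t.truncGE n).obj X).IsLE n := inferInstanceAs (t.IsLE ((t.truncGE n).obj X) n)
  have hB1 : ((t.truncLT (n + 1)).obj Y).IsGE n :=
    inferInstanceAs (t.IsGE ((t.truncLT (n + 1)).obj Y) n)
  have hB2 : ((t.truncLT (n + 1)).obj Y).IsLE n :=
    inferInstanceAs (t.IsLE ((t.truncLT (n + 1)).obj Y) n)
  have h4 := eq_zero_of_heart n _ h3
  rw [← h1, ← h2, h4, zero_comp, comp_zero]

end Helper5.TwoTerm
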