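import Mathlib
import Groth.Agent.Lib.Helper5.TwoTerm.Bij

open CategoryTheory Category Limits Pretriangulated CochainComplex.HomComplex

universe w v u

namespace Helper5.TwoTerm

variable {C : Type u} [Category.{v} C] [Abelian C]

/-- The target complex `N[1]`. -/
noncomputable abbrev shiftSingle (N : C) : CochainComplex C ℤ :=
  ((CochainComplex.singleFunctor C 0).obj N)⟦(1 : ℤ)⟧

instance (N : C) : (shiftSingle N).IsStrictlyGE (-1) :=
  CochainComplex.isStrictlyGE_shift _ 0 1 (-1) (by lia)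

/-- The chain map `M → N[1]` attached to `f : M⁻¹ → N` with `d ≫ f = 0`. -/
noncomputable def toShiftSingle (M : CochainComplex C ℤ) {N : C} (f : M.X (-1) ⟶ N)
    (hf : M.d (-2) (-1) ≫ f = 0) : M ⟶ shiftSingle N :=
  Cocycle.equivHomShift.symm
    (Cocycle.toSingleMk f (show (-1 : ℤ) + 1 = 0 by lia) (-2) (by lia) hf)

lemma toShiftSingle_surjective (M : CochainComplex C ℤ) {N : C} (φ : M ⟶ shiftSingle N) :
    ∃ (f : M.X (-1) ⟶ N) (hf : M.d (-2) (-1) ≫ f = 0), toShiftSingle M f hf = φ := by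
  obtain ⟨f, hf, h⟩ := Cocycle.toSingleMk_surjective (Cocycle.equivHomShift φ) (-1)
    (show (-1 : ℤ) + 1 = 0 by lia) (-2) (by lia)
  refine ⟨f, hf, ?_⟩
  dsimp [toShiftSingle]
  rw [h, AddEquiv.symm_apply_apply]

lemma comp_toShiftSingle {M' M : CochainComplex C ℤ} (a : M' ⟶ M) {N : C} (f : M.X (-1) ⟶ N)
    (hf : M.d (-2) (-1) ≫ f = 0) :
    a ≫ toShiftSingle M f hf =
      toShiftSingle M' (a.f (-1) ≫ f) (by rw [← a.comm_assoc, hf, comp_zero]) := by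
  dsimp [toShiftSingle]
  rw [← Cocycle.equivHomShift_symm_precomp, Cocycle.toSingleMk_precomp]

lemma toShiftSingle_homotopy_zero_iff (M : CochainComplex C ℤ) {N : C} (f : M.X (-1) ⟶ N)
    (hf : M.d (-2) (-1) ≫ f = 0) :
    Nonempty (Homotopy (toShiftSingle M f hf) 0) ↔ ∃ g : M.X 0 ⟶ N, M.d (-1) 0 ≫ g = f := by
  rw [← HomotopyCategory.quotient_map_eq_zero_iff]
  dsimp [toShiftSingle]
  rw [← CohomologyClass.toHom_mk, CohomologyClass.toHom_mk_eq_zero_iff,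
    Cocycle.toSingleMk_mem_coboundaries_iff _ _ _ _ _ 0 (by lia)]

variable [HasDerivedCategory.{w} C]

open DerivedCategory

/-- The comparison isomorphism `Q(N[1]) ≅ N[0][1]` in the derived category. -/
noncomputable def shiftSingleIso (N : C) :
    Q.obj (shiftSingle N) ≅ ((DerivedCategory.singleFunctor C 0).obj N)⟦(1 : ℤ)⟧ :=
  (Q.commShiftIso (1 : ℤ)).app _ ≪≫
    (shiftFunctor (DerivedCategory C) (1 : ℤ)).mapIso ((singleFunctorIsoCompQ C 0).app N).symm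

/-- The class in `Hom_D(M, N[1])` attached to `f : M⁻¹ → N` with `d ≫ f = 0`. -/
noncomputable def ext1Mk (M : CochainComplex C ℤ) {N : C} (f : M.X (-1) ⟶ N)
    (hf : M.d (-2) (-1) ≫ f = 0) :
    Q.obj M ⟶ ((DerivedCategory.singleFunctor C 0).obj N)⟦(1 : ℤ)⟧ :=
  Q.map (toShiftSingle M f hf) ≫ (shiftSingleIso N).hom

lemma Q_map_comp_ext1Mk {M' M : CochainComplex C ℤ} (a : M' ⟶ M) {N : C} (f : M.X (-1) ⟶ N)
    (hf : M.d (-2) (-1) ≫ f = 0) :
    Q.map a ≫ ext1Mk M f hf =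
      ext1Mk M' (a.f (-1) ≫ f) (by rw [← a.comm_assoc, hf, comp_zero]) := by
  dsimp [ext1Mk]
  rw [← assoc, ← Q.map_comp, comp_toShiftSingle]

lemma ext1Mk_surjective {M : CochainComplex C ℤ}
    (hM : ∀ i : ℤ, 0 < i → IsZero (M.X i)) [Projective (M.X 0)] {N : C}
    (ξ : Q.obj M ⟶ ((DerivedCategory.singleFunctor C 0).obj N)⟦(1 : ℤ)⟧) :
    ∃ (f : M.X (-1) ⟶ N) (hf : M.d (-2) (-1) ≫ f = 0), ext1Mk M f hf = ξ := by
  obtain ⟨φ, hφ⟩ := exists_Q_map_eq hM (ξ ≫ (shiftSingleIso N).inv)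
  obtain ⟨f, hf, rfl⟩ := toShiftSingle_surjective M φ
  refine ⟨f, hf, ?_⟩
  dsimp [ext1Mk]
  rw [hφ, assoc, Iso.inv_hom_id, comp_id]

lemma ext1Mk_eq_zero_iff {M : CochainComplex C ℤ}
    (hM : ∀ i : ℤ, 0 < i → IsZero (M.X i)) [Projective (M.X 0)] {N : C} (f : M.X (-1) ⟶ N)
    (hf : M.d (-2) (-1) ≫ f = 0) :
    ext1Mk M f hf = 0 ↔ ∃ g : M.X 0 ⟶ N, M.d (-1) 0 ≫ g = f := by
  rw [← toShiftSingle_homotopy_zero_iff M f hf]
  constructor
  · intro h
    apply nonempty_homotopy_zero_of_Q_map_eq_zero hM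
    rw [← cancel_mono (shiftSingleIso N).hom, zero_comp]
    exact h
  · rintro ⟨H⟩
    dsimp [ext1Mk]
    rw [Q_map_eq_of_homotopy C H, Functor.map_zero, zero_comp]

end Helper5.TwoTerm
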