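import Mathlib
import Groth.Agent.Lib.Helper5.TwoTerm.Ext1

open CategoryTheory Category Limits Pretriangulated CochainComplex.HomComplex DerivedCategory

universe w v u t

namespace Helper5.TwoTerm

variable {R : Type t} [Ring R] {C : Type u} [Category.{v} C] [Abelian C] [Linear R C]
  [HasDerivedCategory.{w} C]

lemma smul_ext1Mk (a : R) (M : CochainComplex C ℤ) {N : C} (f : M.X (-1) ⟶ N)
    (hf : M.d (-2) (-1) ≫ f = 0) :
    a • ext1Mk M f hf = ext1Mk M (a • f) (by rw [Linear.comp_smul, hf, smul_zero]) := by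
  have h1 : a • ext1Mk M f hf = Q.map (a • 𝟙 M) ≫ ext1Mk M f hf := by
    rw [Functor.map_smul, CategoryTheory.Functor.map_id, Linear.smul_comp, id_comp]
  rw [h1, Q_map_comp_ext1Mk]
  congr 1
  rw [HomologicalComplex.smul_f_apply, HomologicalComplex.id_f, Linear.smul_comp, id_comp]

end Helper5.TwoTerm
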