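import Mathlib

namespace Helper5.TwoTerm

variable {R : Type*} [CommRing R] {A B : Type*} [AddCommGroup A] [AddCommGroup B]
  [Module R A] [Module R B]

/-- A map into a projective module is a split injection iff it is injective with projective
cokernel. -/
theorem exists_retraction_iff (d : A →ₗ[R] B) [Module.Projective R B] :
    (∃ r : B →ₗ[R] A, r ∘ₗ d = LinearMap.id) ↔
      (LinearMap.ker d = ⊥ ∧ Module.Projective R (B ⧸ LinearMap.range d)) := by
  constructor
  · rintro ⟨r, hr⟩
    have hr' : ∀ x, r (d x) = x := fun x => LinearMap.congr_fun hr x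
    refine ⟨?_, ?_⟩
    · rw [LinearMap.ker_eq_bot']
      intro x hx
      rw [← hr' x, hx, map_zero]
    · let i : (B ⧸ LinearMap.range d) →ₗ[R] B :=
        (LinearMap.range d).liftQ (LinearMap.id - d ∘ₗ r) (by
          rintro _ ⟨y, rfl⟩
          simp [hr'])
      refine Module.Projective.of_split i (LinearMap.range d).mkQ ?_
      apply (LinearMap.range d).quot_hom_ext
      intro x
      simp only [LinearMap.comp_apply, i, Submodule.liftQ_apply, LinearMap.sub_apply,
        LinearMap.id_apply, Submodule.mkQ_apply, Submodule.Quotient.mk_sub]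
      rw [sub_eq_self, Submodule.Quotient.mk_eq_zero]
      exact ⟨r x, rfl⟩
  · rintro ⟨hk, hp⟩
    have hinj : Function.Injective d := LinearMap.ker_eq_bot.mp hk
    obtain ⟨s, hs⟩ := Module.projective_lifting_property (LinearMap.range d).mkQ
      LinearMap.id (Submodule.mkQ_surjective _)
    have hs' : ∀ y, (LinearMap.range d).mkQ (s y) = y := fun y => LinearMap.congr_fun hs y
    let p : B →ₗ[R] B := LinearMap.id - s ∘ₗ (LinearMap.range d).mkQ
    have hp : ∀ x, p x ∈ LinearMap.range d := by
      intro x
      rw [← Submodule.Quotient.mk_eq_zero, ← Submodule.mkQ_apply]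
      simp only [p, LinearMap.sub_apply, LinearMap.id_apply, LinearMap.comp_apply, map_sub, hs',
        sub_self]
    let r : B →ₗ[R] A :=
      (LinearEquiv.ofInjective d hinj).symm.toLinearMap ∘ₗ p.codRestrict (LinearMap.range d) hp
    refine ⟨r, ?_⟩
    ext y
    simp only [LinearMap.comp_apply, r, LinearEquiv.coe_coe, LinearMap.id_apply]
    apply (LinearEquiv.ofInjective d hinj).injective
    rw [LinearEquiv.apply_symm_apply]
    ext
    simp only [LinearMap.codRestrict_apply, LinearEquiv.ofInjective_apply]
    have : (LinearMap.range d).mkQ (d y) = 0 := by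
      rw [Submodule.mkQ_apply, Submodule.Quotient.mk_eq_zero]
      exact ⟨y, rfl⟩
    simp [p, this]

end Helper5.TwoTerm
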