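import Mathlib
import Groth.Prelude.Def_DRing2
import Groth.Agent.Lib.Helper5.TwoTerm.TS

open CategoryTheory Category Limits Pretriangulated DerivedCategory

universe u

attribute [local instance] HasDerivedCategory.standard

namespace Helper5.TwoTerm

variable {R : Type u} [CommRing R]

lemma isGE_isLE_of_HD (K : Dual.D R)
    (hK : ∀ i : ℤ, i ≠ -1 → i ≠ 0 → Subsingleton (Dual.HD R K i)) :
    K.IsGE (-1) ∧ K.IsLE 0 := by
  constructor
  · rw [isGE_iff]
    intro i hi
    have := hK i (by lia) (by lia)
    exact ModuleCat.isZero_of_subsingleton _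
  · rw [isLE_iff]
    intro i hi
    have := hK i (by lia) (by lia)
    exact ModuleCat.isZero_of_subsingleton _

/-- The two-term complex `Y → P` (as a mapping cone). -/
noncomputable abbrev twoTerm {Y P : ModuleCat.{u} R} (δ : Y ⟶ P) : DRing.Cx R :=
  CochainComplex.mappingCone ((CochainComplex.singleFunctor (ModuleCat.{u} R) 0).map δ)

lemma twoTerm_vanishesOutside {Y P : ModuleCat.{u} R} (δ : Y ⟶ P) :
    DRing.VanishesOutside (twoTerm δ) (-1) 0 := by
  intro i hi
  rw [CochainComplex.mappingCone.isZero_X_iff]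
  exact ⟨HomologicalComplex.isZero_single_obj_X _ _ _ _ (by lia),
    HomologicalComplex.isZero_single_obj_X _ _ _ _ (by lia)⟩

set_option backward.isDefEq.respectTransparency false in
/-- The degree `0` term of the two-term complex. -/
noncomputable def twoTermX0Iso {Y P : ModuleCat.{u} R} (δ : Y ⟶ P) : (twoTerm δ).X 0 ≅ P where
  hom := (CochainComplex.mappingCone.snd _).v 0 0 (add_zero 0) ≫
    (HomologicalComplex.singleObjXSelf (ComplexShape.up ℤ) 0 P).hom
  inv := (HomologicalComplex.singleObjXSelf (ComplexShape.up ℤ) 0 P).inv ≫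
    (CochainComplex.mappingCone.inr _).f 0
  hom_inv_id := by
    have h := CochainComplex.mappingCone.id_X
      ((CochainComplex.singleFunctor (ModuleCat.{u} R) 0).map δ) 0 1 (by lia)
    have hz : IsZero (((CochainComplex.singleFunctor (ModuleCat.{u} R) 0).obj Y).X 1) :=
      HomologicalComplex.isZero_single_obj_X _ _ _ _ (by lia)
    rw [hz.eq_of_tgt ((CochainComplex.mappingCone.fst _).1.v 0 1 (by lia)) 0, zero_comp,
      zero_add] at h
    rw [assoc, Iso.hom_inv_id_assoc]
    exact h
  inv_hom_id := by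
    rw [assoc, CochainComplex.mappingCone.inr_f_snd_v_assoc, Iso.inv_hom_id]

theorem exists_twoTerm_rep (K : Dual.D R)
    (hK : ∀ i : ℤ, i ≠ -1 → i ≠ 0 → Subsingleton (Dual.HD R K i))
    (P : ModuleCat.{u} R) [Module.Projective R P]
    (π : P ⟶ (homologyFunctor (ModuleCat.{u} R) 0).obj K) (hπ : Function.Surjective π.hom) :
    ∃ (Y : ModuleCat.{u} R) (δ : Y ⟶ P), Nonempty (DRing.toD (twoTerm δ) ≅ K) := by
  obtain ⟨h1, h2⟩ := isGE_isLE_of_HD K hK
  have : Projective P := (IsProjective.iff_projective P).mp inferInstance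
  have : Epi π := (ModuleCat.epi_iff_surjective π).mpr hπ
  exact exists_twoTerm_of_epi K π

/-- Objects of `D(R)` with cohomology in degrees `-1, 0` are represented by two-term complexes
with free term in degree `0`. -/
theorem exists_twoTerm_free (K : Dual.D R)
    (hK : ∀ i : ℤ, i ≠ -1 → i ≠ 0 → Subsingleton (Dual.HD R K i)) :
    ∃ E : DRing.Cx R, DRing.VanishesOutside E (-1) 0 ∧ Module.Free R (E.X 0) ∧
      Nonempty (DRing.toD E ≅ K) := by
  let H := Dual.HD R K 0
  let P : ModuleCat.{u} R := ModuleCat.of R (H →₀ R)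
  let π : P ⟶ (homologyFunctor (ModuleCat.{u} R) 0).obj K :=
    ModuleCat.ofHom (Finsupp.linearCombination R (id : H → H))
  have hπ : Function.Surjective π.hom := by
    intro x
    refine ⟨Finsupp.single x 1, ?_⟩
    change (Finsupp.linearCombination R (id : H → H)) (Finsupp.single x 1) = x
    rw [Finsupp.linearCombination_single, one_smul]
    rfl
  obtain ⟨Y, δ, hE⟩ := exists_twoTerm_rep K hK P π hπ
  refine ⟨twoTerm δ, twoTerm_vanishesOutside δ, ?_, hE⟩
  exact Module.Free.of_equiv (twoTermX0Iso δ).toLinearEquiv.symm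

end Helper5.TwoTerm
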