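import Mathlib
import Groth.Prelude.Def_DRing2
import Groth.Agent.Lib.Helper5.TwoTerm.TTMod
import Groth.Agent.Lib.Helper5.DMod.DCCx

open CategoryTheory Category Limits Pretriangulated DerivedCategory

universe u

attribute [local instance] HasDerivedCategory.standard

namespace Helper5.TwoTerm

variable {R : Type u} [CommRing R]

/-- `Hʲ` of the image of a complex in `D(R)` via `sc'`. -/
noncomputable def HDtoDEquiv' (E : DRing.Cx R) (i j k : ℤ) (hi : (ComplexShape.up ℤ).prev j = i)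
    (hk : (ComplexShape.up ℤ).next j = k) :
    Dual.HD R (DRing.toD E) j ≃ₗ[R] (E.sc' i j k).moduleCatLeftHomologyData.H :=
  (((DerivedCategory.homologyFunctorFactors (ModuleCat.{u} R) j).app E) ≪≫
    E.homologyIsoSc' i j k hi hk ≪≫ (E.sc' i j k).moduleCatHomologyIso).toLinearEquiv

lemma range_toCycles_eq_bot (E : DRing.Cx R) (hE : IsZero (E.X (-2))) :
    LinearMap.range (E.sc' (-2) (-1) 0).moduleCatToCycles = ⊥ := by
  have : Subsingleton (E.X (-2)) := ModuleCat.subsingleton_of_isZero hE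
  rw [eq_bot_iff]
  rintro _ ⟨x, rfl⟩
  have hx : x = 0 := Subsingleton.elim (α := E.X (-2)) x 0
  rw [hx, map_zero]
  exact Submodule.zero_mem _

/-- For a complex vanishing in degree `-2`, `H⁻¹` is the kernel of the differential. -/
noncomputable def kerEquivHD (E : DRing.Cx R) (hE : IsZero (E.X (-2))) :
    LinearMap.ker (E.d (-1) 0).hom ≃ₗ[R] Dual.HD R (DRing.toD E) (-1) :=
  ((Submodule.quotEquivOfEqBot (LinearMap.range (E.sc' (-2) (-1) 0).moduleCatToCycles)
    (range_toCycles_eq_bot E hE)).symm :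
      LinearMap.ker (E.d (-1) 0).hom ≃ₗ[R] (E.sc' (-2) (-1) 0).moduleCatLeftHomologyData.H) ≪≫ₗ
    (HDtoDEquiv' E (-2) (-1) 0 (by simp) (by simp)).symm

lemma finite_Xm1 [IsNoetherianRing R] (E : DRing.Cx R) (hE : IsZero (E.X (-2)))
    [Module.Finite R (E.X 0)] [Module.Finite R (Dual.HD R (DRing.toD E) (-1))] :
    Module.Finite R (E.X (-1)) := by
  have h1 : Module.Finite R (LinearMap.ker (E.d (-1) 0).hom) :=
    Module.Finite.equiv (kerEquivHD E hE).symm
  have h2 : Module.Finite R (E.X (-1) ⧸ LinearMap.ker (E.d (-1) 0).hom) :=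
    Module.Finite.equiv (E.d (-1) 0).hom.quotKerEquivRange.symm
  exact Module.Finite.of_submodule_quotient (LinearMap.ker (E.d (-1) 0).hom)

theorem exists_twoTerm_finite [IsNoetherianRing R] (K : Dual.D R)
    (hK : ∀ i : ℤ, i ≠ -1 → i ≠ 0 → Subsingleton (Dual.HD R K i))
    (h1 : Module.Finite R (Dual.HD R K (-1))) (h0 : Module.Finite R (Dual.HD R K 0)) :
    ∃ E : DRing.Cx R, DRing.VanishesOutside E (-1) 0 ∧ Module.Free R (E.X 0) ∧
      Module.Finite R (E.X 0) ∧ Module.Finite R (E.X (-1)) ∧ Nonempty (DRing.toD E ≅ K) := by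
  obtain ⟨n, f, hf⟩ := Module.Finite.exists_fin' R (Dual.HD R K 0)
  let P : ModuleCat.{u} R := ModuleCat.of R (Fin n → R)
  let π : P ⟶ (homologyFunctor (ModuleCat.{u} R) 0).obj K := ModuleCat.ofHom f
  obtain ⟨Y, δ, ⟨e⟩⟩ := exists_twoTerm_rep K hK P π hf
  have hfree : Module.Free R ((twoTerm δ).X 0) :=
    Module.Free.of_equiv (twoTermX0Iso δ).toLinearEquiv.symm
  have hfin : Module.Finite R ((twoTerm δ).X 0) :=
    Module.Finite.equiv (twoTermX0Iso δ).toLinearEquiv.symm
  have hfin' : Module.Finite R (Dual.HD R (DRing.toD (twoTerm δ)) (-1)) :=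
    Module.Finite.equiv (Helper5.DMod.HDEquivOfIso e (-1)).symm
  refine ⟨twoTerm δ, twoTerm_vanishesOutside δ, hfree, hfin, ?_, ⟨e⟩⟩
  exact finite_Xm1 (twoTerm δ) (twoTerm_vanishesOutside δ (-2) (by lia))

end Helper5.TwoTerm
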