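import Mathlib
import Groth.Prelude.Def_DRing2
import Groth.Agent.Lib.Helper5.TwoTerm.SplitLA
import Groth.Agent.Lib.Helper5.TwoTerm.TTFin
import Groth.Agent.Lib.Helper5.TwoTerm.Ext1Lin

open CategoryTheory Category Limits Pretriangulated DerivedCategory

universe u

attribute [local instance] HasDerivedCategory.standard

namespace Helper5.TwoTerm

variable {R : Type u} [CommRing R]

/-- For a complex vanishing in degree `1`, `H⁰` is the cokernel of the differential. -/
noncomputable def cokerEquivHD (E : DRing.Cx R) (hE : IsZero (E.X 1)) :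
    Dual.HD R (DRing.toD E) 0 ≃ₗ[R] (E.X 0 ⧸ LinearMap.range (E.d (-1) 0).hom) :=
  (((DerivedCategory.homologyFunctorFactors (ModuleCat.{u} R) 0).app E) ≪≫
    E.homologyIsoSc' (-1) 0 1 (by simp) (by simp) ≪≫
    (ShortComplex.LeftHomologyData.ofIsColimitCokernelCofork (E.sc' (-1) 0 1)
      (hE.eq_of_tgt _ _) (ModuleCat.cokernelCocone (E.d (-1) 0))
      (ModuleCat.cokernelIsColimit (E.d (-1) 0))).homologyIso).toLinearEquiv

theorem twoTerm_ext_one_vanishing_iff (K : Dual.D R)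
    (hK : ∀ i : ℤ, i ≠ -1 → i ≠ 0 → Subsingleton (Dual.HD R K i)) :
    (Subsingleton (Dual.HD R K (-1)) ∧ Module.Projective R (Dual.HD R K 0)) ↔
      ∀ (M : Type u) [AddCommGroup M] [Module R M],
        Subsingleton (K ⟶ (Dual.inD R M)⟦(1 : ℤ)⟧) := by
  obtain ⟨E, hE, hfree, ⟨e⟩⟩ := exists_twoTerm_free K hK
  have hE0 : Module.Projective R (E.X 0) := inferInstance
  have : Projective (E.X 0) := (IsProjective.iff_projective (E.X 0)).mp hE0
  have hE' : ∀ i : ℤ, 0 < i → Limits.IsZero (E.X i) := fun i hi => hE i (Or.inr hi)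
  have hEm2 : IsZero (E.X (-2)) := hE (-2) (Or.inl (by lia))
  have hd2 : ∀ {N : ModuleCat.{u} R} (f : E.X (-1) ⟶ N), E.d (-2) (-1) ≫ f = 0 :=
    fun f => hEm2.eq_of_src _ _
  have key1 : (∀ (M : Type u) [AddCommGroup M] [Module R M],
        Subsingleton (K ⟶ (Dual.inD R M)⟦(1 : ℤ)⟧)) ↔
      ∃ r : E.X 0 →ₗ[R] E.X (-1), r ∘ₗ (E.d (-1) 0).hom = LinearMap.id := by
    constructor
    · intro h
      have h1 : e.inv ≫ ext1Mk E (𝟙 (E.X (-1))) (hd2 _) = 0 :=
        (h (E.X (-1))).elim _ _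
      have h2 : ext1Mk E (𝟙 (E.X (-1))) (hd2 _) = 0 := by
        rw [← cancel_epi e.inv, h1, comp_zero]
      rw [ext1Mk_eq_zero_iff hE'] at h2
      obtain ⟨g, hg⟩ := h2
      refine ⟨g.hom, ?_⟩
      have := congrArg ModuleCat.Hom.hom hg
      simpa using this
    · rintro ⟨r, hr⟩ M _ _
      refine ⟨fun ξ₁ ξ₂ => ?_⟩
      suffices ∀ ξ : K ⟶ (Dual.inD R M)⟦(1 : ℤ)⟧, ξ = 0 by rw [this ξ₁, this ξ₂]
      intro ξ
      obtain ⟨f, hf, hξ⟩ := ext1Mk_surjective hE' (e.hom ≫ ξ)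
      have h1 : e.hom ≫ ξ = 0 := by
        rw [← hξ, ext1Mk_eq_zero_iff hE']
        refine ⟨ModuleCat.ofHom r ≫ f, ?_⟩
        ext x
        have := LinearMap.congr_fun hr x
        simp only [LinearMap.comp_apply, LinearMap.id_apply] at this
        simp [this]
      rw [← cancel_epi e.hom, h1, comp_zero]
  have key2 : (Subsingleton (Dual.HD R K (-1)) ∧ Module.Projective R (Dual.HD R K 0)) ↔
      (LinearMap.ker (E.d (-1) 0).hom = ⊥ ∧
        Module.Projective R (E.X 0 ⧸ LinearMap.range (E.d (-1) 0).hom)) := by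
    let e1 : LinearMap.ker (E.d (-1) 0).hom ≃ₗ[R] Dual.HD R K (-1) :=
      (kerEquivHD E hEm2).trans (Helper5.DMod.HDEquivOfIso e (-1))
    let e0 : Dual.HD R K 0 ≃ₗ[R] (E.X 0 ⧸ LinearMap.range (E.d (-1) 0).hom) :=
      (Helper5.DMod.HDEquivOfIso e 0).symm.trans (cokerEquivHD E (hE' 1 (by lia)))
    refine and_congr ?_ ?_
    · rw [← Submodule.subsingleton_iff_eq_bot]
      exact e1.toEquiv.symm.subsingleton_congr
    · exact ⟨fun h => Module.Projective.of_equiv e0, fun h => Module.Projective.of_equiv e0.symm⟩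
  exact key2.trans ((exists_retraction_iff (E.d (-1) 0).hom).symm.trans key1.symm)

end Helper5.TwoTerm
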