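import Mathlib
import Groth.Prelude.Def_DRing2
import Groth.Agent.Lib.Helper5.TwoTerm.TSOrth
import Groth.Agent.Lib.Helper5.TwoTerm.TTMod

open CategoryTheory Category Limits Pretriangulated DerivedCategory Triangulated

universe w v u

namespace Helper5.TwoTerm

section general

variable {C : Type u} [Category.{v} C] [Abelian C] [HasDerivedCategory.{w} C]

/-- If `α : K → K'` (both in `D^{≤0}`) is an isomorphism on `H⁰` and an epimorphism on `H⁻¹`,
then its cone lies in `D^{≤ -2}`. -/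
lemma isLE_cone {K K' Z : DerivedCategory C} [K.IsLE 0] [K'.IsLE 0] (α : K ⟶ K') (β : K' ⟶ Z)
    (γ : Z ⟶ K⟦(1 : ℤ)⟧) (hT : Triangle.mk α β γ ∈ distTriang _)
    (h0 : IsIso ((homologyFunctor C 0).map α)) (h1 : Epi ((homologyFunctor C (-1)).map α)) :
    Z.IsLE (-2) := by
  rw [isLE_iff]
  intro i hi
  refine isZero_homology_obj₃ _ hT i (i + 1) rfl ?_ ?_
  · by_cases hi1 : i = -1
    · subst hi1; exact h1
    by_cases hi0 : i = 0
    · subst hi0; exact (inferInstance : Epi ((homologyFunctor C 0).map α))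
    · have : IsZero ((homologyFunctor C i).obj K') := isZero_of_isLE _ 0 i (by lia)
      exact ⟨fun _ _ _ => this.eq_of_src _ _⟩
  · by_cases hi1 : i = -1
    · subst hi1
      have : IsIso ((homologyFunctor C (-1 + 1)).map α) := h0
      exact (inferInstance : Mono ((homologyFunctor C (-1 + 1)).map α))
    · have : IsZero ((homologyFunctor C (i + 1)).obj K) := isZero_of_isLE _ 0 (i + 1) (by lia)
      exact ⟨fun _ _ _ => this.eq_of_tgt _ _⟩

/-- Precomposition with such an `α` is injective on morphisms to objects of `D^{≥ -1}`. -/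
lemma eq_zero_of_comp_eq_zero {K K' : DerivedCategory C} [K.IsLE 0] [K'.IsLE 0] (α : K ⟶ K')
    (h0 : IsIso ((homologyFunctor C 0).map α)) (h1 : Epi ((homologyFunctor C (-1)).map α))
    {Y : DerivedCategory C} [Y.IsGE (-1)] (ξ : K' ⟶ Y) (h : α ≫ ξ = 0) : ξ = 0 := by
  obtain ⟨Z, β, γ, hT⟩ := distinguished_cocone_triangle α
  have : Z.IsLE (-2) := isLE_cone α β γ hT h0 h1
  obtain ⟨g, hg⟩ : ∃ g : Z ⟶ Y, ξ = β ≫ g := Triangle.yoneda_exact₂ _ hT ξ h
  have : g = 0 := TStructure.t.zero g (-2) (-1) (by lia)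
  rw [hg, this, comp_zero]

/-- `φ ≫ ψ = 0` when `H⁰(φ) = 0` and `H⁻¹(ψ) = 0` (source in `D^{≤0}`, target in `D^{≥-1}`). -/
lemma comp_eq_zero_of_homologyMap {K₁ K₂ K₃ : DerivedCategory C} [K₁.IsLE 0] [K₃.IsGE (-1)]
    (φ : K₁ ⟶ K₂) (ψ : K₂ ⟶ K₃) (hφ : (homologyFunctor C 0).map φ = 0)
    (hψ : (homologyFunctor C (-1)).map ψ = 0) : φ ≫ ψ = 0 := by
  let t : TStructure (DerivedCategory C) := TStructure.t
  have hT := t.triangleLTGE_distinguished 0 K₂
  have hB : ((t.truncGE 0).obj K₂).IsGE 0 := inferInstanceAs (t.IsGE ((t.truncGE 0).obj K₂) 0)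
  have hA : ((t.truncLT 0).obj K₂).IsLE (-1) :=
    inferInstanceAs (t.IsLE ((t.truncLT 0).obj K₂) (0 - 1))
  have h1 : φ ≫ (t.truncGEπ 0).app K₂ = 0 := by
    apply eq_zero_of_homologyMap_eq_zero 0
    rw [Functor.map_comp, hφ, zero_comp]
  obtain ⟨φ', hφ'⟩ : ∃ φ' : K₁ ⟶ (t.truncLT 0).obj K₂, φ = φ' ≫ (t.truncLTι 0).app K₂ :=
    Triangle.coyoneda_exact₂ _ hT φ h1
  have h2 : (t.truncLTι 0).app K₂ ≫ ψ = 0 := by
    apply eq_zero_of_homologyMap_eq_zero (-1)
    rw [Functor.map_comp, hψ, comp_zero]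
  rw [hφ', assoc, h2, comp_zero]

end general

end Helper5.TwoTerm
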