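import Mathlib
import Groth.Prelude.Def_DRing2
import Groth.Agent.Lib.Helper5.TwoTerm.TTAbs
import Groth.Agent.Lib.Helper5.TwoTerm.Proj

open CategoryTheory Category Limits Pretriangulated DerivedCategory Triangulated

universe u

attribute [local instance] HasDerivedCategory.standard

namespace Helper5.TwoTerm

variable {R : Type u} [CommRing R]

/-- If `a` kills `Ext¹(K, N)` for all `N`, then `a` kills `H⁻¹(K)`. -/
lemma smul_HD_eq_zero_of_smul_ext (K : Dual.D R)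
    (hK : ∀ i : ℤ, i ≠ -1 → i ≠ 0 → Subsingleton (Dual.HD R K i)) (a : R)
    (h : ∀ (N : Type u) [AddCommGroup N] [Module R N]
      (ξ : K ⟶ (Dual.inD R N)⟦(1 : ℤ)⟧), a • ξ = 0) (x : Dual.HD R K (-1)) : a • x = 0 := by
  obtain ⟨E, hE, hfree, ⟨e⟩⟩ := exists_twoTerm_free K hK
  have hE0 : Module.Projective R (E.X 0) := inferInstance
  have : Projective (E.X 0) := (IsProjective.iff_projective (E.X 0)).mp hE0
  have hE' : ∀ i : ℤ, 0 < i → Limits.IsZero (E.X i) := fun i hi => hE i (Or.inr hi)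
  have hEm2 : IsZero (E.X (-2)) := hE (-2) (Or.inl (by lia))
  have hE2 : E.d (-2) (-1) ≫ 𝟙 (E.X (-1)) = 0 := hEm2.eq_of_src _ _
  have h1 := h (E.X (-1)) (e.inv ≫ ext1Mk E (𝟙 _) hE2)
  rw [← Linear.comp_smul, smul_ext1Mk] at h1
  have h2 : ext1Mk E (a • 𝟙 (E.X (-1))) (by rw [Linear.comp_smul, hE2, smul_zero]) = 0 := by
    rw [← cancel_epi e.inv, h1, Limits.comp_zero]
  rw [ext1Mk_eq_zero_iff hE'] at h2
  obtain ⟨g, hg⟩ := h2
  let e1 : LinearMap.ker (E.d (-1) 0).hom ≃ₗ[R] Dual.HD R K (-1) :=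
    (kerEquivHD E hEm2).trans (Helper5.DMod.HDEquivOfIso e (-1))
  obtain ⟨y, rfl⟩ := e1.surjective x
  rw [← map_smul]
  have hy : a • y = 0 := by
    ext
    have := congrArg (fun φ => φ.hom (y : E.X (-1))) hg
    simp only [ModuleCat.hom_comp, LinearMap.comp_apply] at this
    rw [LinearMap.mem_ker.mp y.2, map_zero] at this
    change a • (y : E.X (-1)) = 0
    rw [this]
    rfl
  rw [hy, map_zero]

/-- The truncation data of an object of `D^{[-1,0]}(R)`. -/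
theorem exists_truncation_data (K : Dual.D R)
    (hK : ∀ i : ℤ, i ≠ -1 → i ≠ 0 → Subsingleton (Dual.HD R K i)) :
    ∃ (A : Dual.D R) (ι : A ⟶ K) (p : K ⟶ Dual.inD R (Dual.HD R K 0))
      (δ : Dual.inD R (Dual.HD R K 0) ⟶ A⟦(1 : ℤ)⟧),
      Triangle.mk ι p δ ∈ distTriang _ ∧ A.IsLE (-1) ∧
        ∀ b : R, (∀ x : Dual.HD R K (-1), b • x = 0) → b • 𝟙 A = 0 := by
  obtain ⟨hGE, hLE⟩ := isGE_isLE_of_HD K hK
  let t : TStructure (Dual.D R) := TStructure.t
  have hT := t.triangleLTGE_distinguished 0 K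
  have hB1 : ((t.truncGE 0).obj K).IsGE 0 := inferInstanceAs (t.IsGE ((t.truncGE 0).obj K) 0)
  have hB2 : ((t.truncGE 0).obj K).IsLE 0 := inferInstanceAs (t.IsLE ((t.truncGE 0).obj K) 0)
  have hA1 : ((t.truncLT 0).obj K).IsLE (-1) :=
    inferInstanceAs (t.IsLE ((t.truncLT 0).obj K) (0 - 1))
  have hA2 : ((t.truncLT 0).obj K).IsGE (-1) :=
    inferInstanceAs (t.IsGE ((t.truncLT 0).obj K) (-1))
  obtain ⟨Y, ⟨eA⟩⟩ := exists_iso_singleFunctor_obj_of_isGE_of_isLE ((t.truncLT 0).obj K) (-1)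
  obtain ⟨Z', ⟨eB⟩⟩ := exists_iso_singleFunctor_obj_of_isGE_of_isLE ((t.truncGE 0).obj K) 0
  have iπ : IsIso ((homologyFunctor (ModuleCat.{u} R) 0).map ((t.truncGEπ 0).app K)) :=
    isIso_homologyMap_mor₂ _ hT 0 1 rfl
      (isZero_of_isLE ((t.truncLT 0).obj K) (-1) 0 (by lia))
      (isZero_of_isLE ((t.truncLT 0).obj K) (-1) 1 (by lia))
  have iι : IsIso ((homologyFunctor (ModuleCat.{u} R) (-1)).map ((t.truncLTι 0).app K)) :=
    isIso_homologyMap_mor₁ _ hT (-2) (-1) (by lia)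
      (isZero_of_isGE ((t.truncGE 0).obj K) 0 (-2) (by lia))
      (isZero_of_isGE ((t.truncGE 0).obj K) 0 (-1) (by lia))
  let eZ : Z' ≅ (homologyFunctor (ModuleCat.{u} R) 0).obj K :=
    (singleFunctorCompHomologyFunctorIso (ModuleCat.{u} R) 0).symm.app Z' ≪≫
      (homologyFunctor (ModuleCat.{u} R) 0).mapIso eB.symm ≪≫
      (asIso ((homologyFunctor (ModuleCat.{u} R) 0).map ((t.truncGEπ 0).app K))).symm
  let eY : Y ≅ (homologyFunctor (ModuleCat.{u} R) (-1)).obj K :=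
    (singleFunctorCompHomologyFunctorIso (ModuleCat.{u} R) (-1)).symm.app Y ≪≫
      (homologyFunctor (ModuleCat.{u} R) (-1)).mapIso eA.symm ≪≫
      asIso ((homologyFunctor (ModuleCat.{u} R) (-1)).map ((t.truncLTι 0).app K))
  let e' : (t.truncGE 0).obj K ≅ Dual.inD R (Dual.HD R K 0) :=
    eB ≪≫ (singleFunctor (ModuleCat.{u} R) 0).mapIso eZ
  refine ⟨(t.truncLT 0).obj K, (t.truncLTι 0).app K, (t.truncGEπ 0).app K ≫ e'.hom,
    e'.inv ≫ (t.truncGEδLT 0).app K, ?_, hA1, ?_⟩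
  · refine isomorphic_distinguished _ hT _ ?_
    exact Triangle.isoMk _ _ (Iso.refl _) (Iso.refl _) e'.symm
      (by
        exact (comp_id _).trans (id_comp _).symm)
      (by
        refine Eq.trans ?_ (id_comp _).symm
        exact (assoc _ _ _).trans ((congrArg _ e'.hom_inv_id).trans (comp_id _)))
      (by
        change (e'.inv ≫ (t.truncGEδLT 0).app K) ≫ (𝟙 ((t.truncLT 0).obj K))⟦(1 : ℤ)⟧' =
          e'.inv ≫ (t.truncGEδLT 0).app K
        rw [CategoryTheory.Functor.map_id]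
        exact comp_id _)
  · intro b hb
    have hY : b • 𝟙 Y = 0 := by
      ext y
      have h1 : eY.hom.hom (b • y) = 0 := by
        rw [map_smul]
        exact hb _
      have h2 := congrArg eY.inv.hom h1
      rw [map_zero] at h2
      have h3 : eY.inv.hom (eY.hom.hom (b • y)) = b • y := by
        rw [← LinearMap.comp_apply, ← ModuleCat.hom_comp, Iso.hom_inv_id]
        rfl
      rw [h3] at h2
      exact h2
    have h3 : b • 𝟙 ((singleFunctor (ModuleCat.{u} R) (-1)).obj Y) = 0 := by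
      rw [← CategoryTheory.Functor.map_id, ← Functor.map_smul, hY, Functor.map_zero]
    have h4 : b • 𝟙 ((t.truncLT 0).obj K) = eA.hom ≫
        (b • 𝟙 ((singleFunctor (ModuleCat.{u} R) (-1)).obj Y)) ≫ eA.inv := by
      rw [Linear.smul_comp, Linear.comp_smul, id_comp, Iso.hom_inv_id]
    rw [h4, h3, zero_comp, comp_zero]

theorem ext_one_killed_by_pow_iff (I : Ideal R) (K : Dual.D R)
    (hK : ∀ i : ℤ, i ≠ -1 → i ≠ 0 → Subsingleton (Dual.HD R K i)) :
    (∃ c : ℕ, ∀ (N : Type u) [AddCommGroup N] [Module R N] (a : R), a ∈ I ^ c →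
        ∀ ξ : K ⟶ (Dual.inD R N)⟦(1 : ℤ)⟧, a • ξ = 0) ↔
      ∃ c : ℕ, (∀ a : R, a ∈ I ^ c → ∀ x : Dual.HD R K (-1), a • x = 0) ∧
        ∀ (N : Type u) [AddCommGroup N] [Module R N] (a : R), a ∈ I ^ c →
          ∀ ξ : Dual.inD R (Dual.HD R K 0) ⟶ (Dual.inD R N)⟦(1 : ℤ)⟧, a • ξ = 0 := by
  obtain ⟨A, ι, p, δ, hT, hA, hAkill⟩ := exists_truncation_data K hK
  have hN1 : ∀ (N : Type u) [AddCommGroup N] [Module R N],
      ((Dual.inD R N)⟦(1 : ℤ)⟧).IsGE (-1) := fun N _ _ =>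
    DerivedCategory.TStructure.t.isGE_shift _ 0 1 (-1) (by lia)
  have hA1 : (A⟦(1 : ℤ)⟧).IsLE (-2) :=
    DerivedCategory.TStructure.t.isLE_shift A (-1) 1 (-2) (by lia)
  constructor
  · rintro ⟨c, h⟩
    refine ⟨c, fun a ha x => ?_, fun N _ _ a ha ξ => ?_⟩
    · exact smul_HD_eq_zero_of_smul_ext K hK a (fun N _ _ ξ => h N a ha ξ) x
    · have h1 : p ≫ (a • ξ) = 0 := by
        rw [Linear.comp_smul]
        exact h N a ha (p ≫ ξ)
      obtain ⟨g, hg⟩ : ∃ g : A⟦(1 : ℤ)⟧ ⟶ (Dual.inD R N)⟦(1 : ℤ)⟧, a • ξ = δ ≫ g :=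
        Triangle.yoneda_exact₃ _ hT (a • ξ) h1
      have := hN1 N
      have hg0 : g = 0 := DerivedCategory.TStructure.t.zero g (-2) (-1) (by lia)
      rw [hg, hg0, comp_zero]
  · rintro ⟨c, ha, hb⟩
    refine ⟨c + c, fun N _ _ x hx ξ => ?_⟩
    rw [pow_add] at hx
    refine Submodule.mul_induction_on hx ?_ ?_
    · intro a haI b hbI
      have hbA : b • 𝟙 A = 0 := hAkill b (ha b hbI)
      have h1 : ι ≫ (b • ξ) = 0 := by
        have : ι ≫ (b • ξ) = (b • 𝟙 A) ≫ (ι ≫ ξ) := by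
          rw [Linear.comp_smul, Linear.smul_comp, id_comp]
        rw [this, hbA, zero_comp]
      obtain ⟨η, hη⟩ : ∃ η : Dual.inD R (Dual.HD R K 0) ⟶ (Dual.inD R N)⟦(1 : ℤ)⟧,
          b • ξ = p ≫ η := Triangle.yoneda_exact₂ _ hT (b • ξ) h1
      rw [mul_smul, hη, ← Linear.comp_smul, hb N a haI η, comp_zero]
    · intro x y hx hy
      rw [add_smul, hx, hy, add_zero]

end Helper5.TwoTerm
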